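import Groth.Agent.S1168
import Groth.Agent.HilbDescLib.Push
import Groth.Prelude.Def_HilbD
import Groth.Agent.SchDesc.Cover

/-!
The relative Hilbert scheme of points of a family of closed subschemes maps by a closed immersion to
the Hilbert scheme of points of the ambient scheme.
-/

set_option autoImplicit false
set_option linter.all false
set_option backward.isDefEq.respectTransparency false
set_option backward.isDefEq.respectTransparency.types false

universe u

open CategoryTheory CategoryTheory.Limits AlgebraicGeometry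

namespace Groth.Agent.HilbRelLib

variable {X B S : Scheme.{u}} (g : X ⟶ S) (b : B ⟶ S)

abbrev dn (T : Over B) : Over S := Over.mk (T.hom ≫ b)

abbrev dnMap {T T' : Over B} (u : T' ⟶ T) : dn b T' ⟶ dn b T :=
  Over.homMk u.left (by show u.left ≫ T.hom ≫ b = T'.hom ≫ b; rw [← Category.assoc, Over.w u])

noncomputable abbrev al (T : Over B) : PicF.XT (pullback.snd g b) T ≅ PicF.XT g (dn b T) :=
  pullbackLeftPullbackSndIso g b T.hom

theorem XTmap_al {T T' : Over B} (u : T' ⟶ T) :
    PicF.XTmap (pullback.snd g b) u ≫ (al g b T).hom = (al g b T').hom ≫ PicF.XTmap g (dnMap b u) := by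
  apply pullback.hom_ext <;> simp [PicF.XTmap, al, pullback.map]

theorem al_proj (T : Over B) :
    (al g b T).hom ≫ PicF.XTproj g (dn b T) = PicF.XTproj (pullback.snd g b) T := by
  simp [al, PicF.XTproj]

theorem deg_comap_al {d : ℕ} (T : Over B) (I : (PicF.XT g (dn b T)).IdealSheafData)
    (h : Mor2.IsFinLocFreeOfDeg d (I.subschemeι ≫ PicF.XTproj g (dn b T))) :
    Mor2.IsFinLocFreeOfDeg d ((I.comap (al g b T).hom).subschemeι ≫ PicF.XTproj (pullback.snd g b) T) := by
  refine HilbCurveLib.deg_comap (b := 𝟙 T.left) ?_ h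
  exact IsPullback.of_horiz_isIso ⟨by rw [al_proj, Category.comp_id]⟩

theorem deg_comap_al_inv {d : ℕ} (T : Over B) (I : (PicF.XT (pullback.snd g b) T).IdealSheafData)
    (h : Mor2.IsFinLocFreeOfDeg d (I.subschemeι ≫ PicF.XTproj (pullback.snd g b) T)) :
    Mor2.IsFinLocFreeOfDeg d ((I.comap (al g b T).inv).subschemeι ≫ PicF.XTproj g (dn b T)) := by
  refine HilbCurveLib.deg_comap (b := 𝟙 T.left) ?_ h
  exact IsPullback.of_horiz_isIso ⟨by rw [← al_proj, Iso.inv_hom_id_assoc, Category.comp_id]⟩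

theorem exists_baseChange (d : ℕ) (H : Over S) (Z : HilbD.Obj g d H) (hZ : HilbD.IsUniversal g d H Z) :
    ∃ (Z₁ : HilbD.Obj (pullback.snd g b) d (Over.mk (pullback.snd H.hom b))),
      HilbD.IsUniversal (pullback.snd g b) d _ Z₁ ∧
      ∀ (T : Over B) (u : T ⟶ Over.mk (pullback.snd H.hom b)) (m : dn b T ⟶ H),
        m.left = u.left ≫ pullback.fst H.hom b →
          HilbD.pull (pullback.snd g b) u Z₁.1 = (HilbD.pull g m Z.1).comap (al g b T).hom := by
  let φ : dn b (Over.mk (pullback.snd H.hom b)) ⟶ H := Over.homMk (pullback.fst H.hom b) pullback.condition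
  let Z₁ : HilbD.Obj (pullback.snd g b) d (Over.mk (pullback.snd H.hom b)) :=
    ⟨(HilbD.pull g φ Z.1).comap (al g b _).hom, deg_comap_al g b _ _ (HilbCurveLib.pull_deg g φ Z.2)⟩
  have key : ∀ (T : Over B) (u : T ⟶ Over.mk (pullback.snd H.hom b)) (m : dn b T ⟶ H),
      m.left = u.left ≫ pullback.fst H.hom b →
        HilbD.pull (pullback.snd g b) u Z₁.1 = (HilbD.pull g m Z.1).comap (al g b T).hom := by
    intro T u m hm
    have hm' : m = dnMap b u ≫ φ := Over.OverMorphism.ext hm
    show HilbD.pull (pullback.snd g b) u ((HilbD.pull g φ Z.1).comap (al g b _).hom) = _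
    rw [hm', HilbCurveLib.pull_comp, HilbCurveLib.pull_eq (pullback.snd g b),
      HilbCurveLib.pull_eq g (dnMap b u), ← Scheme.IdealSheafData.comap_comp, XTmap_al,
      Scheme.IdealSheafData.comap_comp]
  refine ⟨Z₁, fun T Y => ?_, key⟩
  obtain ⟨m, hm, hmu⟩ := hZ (dn b T) ⟨_, deg_comap_al_inv g b T Y.1 Y.2⟩
  let u : T ⟶ Over.mk (pullback.snd H.hom b) :=
    Over.homMk (pullback.lift m.left T.hom (Over.w m)) (pullback.lift_snd _ _ _)
  refine ⟨u, ?_, fun u' hu' => ?_⟩
  · dsimp only
    rw [key T u m (pullback.lift_fst _ _ _).symm, hm, ← Scheme.IdealSheafData.comap_comp, Iso.hom_inv_id,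
      Scheme.IdealSheafData.comap_id]
  · let m' : dn b T ⟶ H := Over.homMk (u'.left ≫ pullback.fst H.hom b) (by
      show (u'.left ≫ pullback.fst H.hom b) ≫ H.hom = T.hom ≫ b
      rw [Category.assoc, pullback.condition, ← Category.assoc]
      exact congrArg (· ≫ b) (Over.w u'))
    have h1 : (HilbD.pull g m' Z.1).comap (al g b T).hom = Y.1 := (key T u' m' rfl).symm.trans hu'
    have h2 : m' = m := hmu _ (by
      show HilbD.pull g m' Z.1 = Y.1.comap (al g b T).inv
      rw [← h1, ← Scheme.IdealSheafData.comap_comp, Iso.inv_hom_id, Scheme.IdealSheafData.comap_id])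
    refine Over.OverMorphism.ext (pullback.hom_ext ?_ ?_)
    · exact (congrArg CommaMorphism.left h2).trans (pullback.lift_fst _ _ _).symm
    · exact (Over.w u').trans (pullback.lift_snd _ _ _).symm

variable {C : Scheme.{u}}

theorem closedImmersion_of_eq (i : C ⟶ pullback g b) [IsClosedImmersion i] (π : C ⟶ B)
    (hπ : i ≫ pullback.snd g b = π) (j : C ⟶ X) (hj : i ≫ pullback.fst g b = j) (h : j ≫ g = π ≫ b)
    (d : ℕ) (H : Over S) (Z : HilbD.Obj g d H) (hZ : HilbD.IsUniversal g d H Z)
    (H' : Over B) (Z' : HilbD.Obj π d H') (hZ' : HilbD.IsUniversal π d H' Z')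
    (m : dn b H' ⟶ H)
    (hm : HilbD.pull g m Z.1 =
      (Z'.1.subschemeι ≫ pullback.map π H'.hom g (H'.hom ≫ b) j (𝟙 H'.left) b h.symm
        (Category.id_comp _).symm).ker) :
    ∃ u : H'.left ⟶ pullback H.hom b, IsClosedImmersion u ∧
      u ≫ pullback.fst H.hom b = m.left ∧ u ≫ pullback.snd H.hom b = H'.hom := by
  subst hπ hj
  obtain ⟨Z₁, hZ₁, key⟩ := exists_baseChange g b d H Z hZ
  let u : H' ⟶ Over.mk (pullback.snd H.hom b) :=
    Over.homMk (pullback.lift m.left H'.hom (Over.w m)) (pullback.lift_snd _ _ _)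
  refine ⟨u.left, ?_, pullback.lift_fst _ _ _, pullback.lift_snd _ _ _⟩
  refine (S1168.result i (pullback.snd g b) d _ Z₁ hZ₁).2 H' Z' hZ' u ?_
  rw [key H' u m (pullback.lift_fst _ _ _).symm, hm, HilbDescLib.push_eq]
  have e : pullback.map (i ≫ pullback.snd g b) H'.hom g (H'.hom ≫ b) (i ≫ pullback.fst g b) (𝟙 H'.left) b h.symm
      (Category.id_comp _).symm = HilbDescLib.iT i (pullback.snd g b) H' ≫ (al g b H').hom := by
    apply pullback.hom_ext <;> simp [al, HilbDescLib.iT, pullback.map]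
  rw [e]
  have e2 : (Z'.1.subschemeι ≫ HilbDescLib.iT i (pullback.snd g b) H' ≫ (al g b H').hom).ker =
      (Z'.1.map (HilbDescLib.iT i (pullback.snd g b) H')).map (al g b H').hom := by
    conv_rhs => rw [← Z'.1.ker_subschemeι]
    rw [← Scheme.IdealSheafData.map_bot Z'.1.subschemeι, ← Scheme.IdealSheafData.map_comp,
      ← Scheme.IdealSheafData.map_comp, Scheme.IdealSheafData.map_bot]
  rw [e2, HilbDescLib.map_comap_closed]

theorem surjective_of_deg {T Y : Scheme.{u}} (q : T ⟶ Y) {d : ℕ} (hd : 0 < d) (hq : Mor2.IsFinLocFreeOfDeg d q) :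
    Surjective q := by
  obtain ⟨⟨hfin, hfl, hfp⟩, hdeg⟩ := hq
  haveI := hfin; haveI := hfl; haveI := hfp
  refine (Scheme.Hom.one_le_finrank_iff_surjective q).1 ?_
  intro y
  show (1 : ℕ) ≤ q.finrank y
  rw [hdeg y]
  exact hd

theorem main {j : C ⟶ X} [IsClosedImmersion j] (π : C ⟶ B) (h : j ≫ g = π ≫ b)
    [IsProper g] [IsSeparated b] [LocallyOfFiniteType b] [Flat π] [IsProper π] [LocallyOfFinitePresentation π]
    (d : ℕ) (hd : 0 < d) (H : Over S) [IsSeparated H.hom] (Z : HilbD.Obj g d H) (hZ : HilbD.IsUniversal g d H Z)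
    (H' : Over B) (Z' : HilbD.Obj π d H') (hZ' : HilbD.IsUniversal π d H' Z')
    (m : dn b H' ⟶ H)
    (hm : HilbD.pull g m Z.1 =
      (Z'.1.subschemeι ≫ pullback.map π H'.hom g (H'.hom ≫ b) j (𝟙 H'.left) b h.symm
        (Category.id_comp _).symm).ker) :
    IsClosedImmersion m.left := by
  let i : C ⟶ pullback g b := pullback.lift j π h
  haveI : IsClosedImmersion i := by
    haveI : IsClosedImmersion (i ≫ pullback.fst g b) := by rw [pullback.lift_fst]; infer_instance
    exact IsClosedImmersion.of_comp i (pullback.fst g b)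
  obtain ⟨u, hu, hu1, hu2⟩ := closedImmersion_of_eq g b i π (pullback.lift_snd _ _ _) j (pullback.lift_fst _ _ _) h d
    H Z hZ H' Z' hZ' m hm
  haveI := hu
  let ιZ : Z'.1.subscheme ⟶ PicF.XT π H' := Z'.1.subschemeι
  let q : Z'.1.subscheme ⟶ H'.left := ιZ ≫ PicF.XTproj π H'
  obtain ⟨⟨hfin, hfl, hfp⟩, -⟩ := id Z'.2
  haveI : IsFinite q := hfin
  haveI : Flat q := hfl
  haveI : LocallyOfFinitePresentation q := hfp
  haveI : Surjective q := surjective_of_deg q hd Z'.2
  have hrange : Set.range H'.hom.base ⊆ Set.range π.base := by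
    rintro _ ⟨x, rfl⟩
    obtain ⟨z, rfl⟩ := q.surjective x
    refine ⟨(ιZ ≫ pullback.fst π H'.hom).base z, ?_⟩
    rw [← Scheme.Hom.comp_apply, Category.assoc, pullback.condition, ← Category.assoc]
    rfl
  let U : B.Opens := ⟨Set.range π.base, π.isOpenMap.isOpen_range⟩
  have hUc : IsClosed (U : Set B) := π.isClosedMap.isClosed_range
  haveI : IsClosedImmersion U.ι := IsClosedImmersion.of_isPreimmersion U.ι (by rw [Scheme.Opens.range_ι]; exact hUc)
  let π' : C ⟶ (U : Scheme.{u}) := IsOpenImmersion.lift U.ι π (by rw [Scheme.Opens.range_ι]; exact subset_rfl)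
  have hπ' : π' ≫ U.ι = π := IsOpenImmersion.lift_fac _ _ _
  haveI : Surjective π' := ⟨fun y => by
    obtain ⟨c, hc⟩ := y.2
    refine ⟨c, U.ι.isOpenEmbedding.injective ?_⟩
    rw [← Scheme.Hom.comp_apply, hπ']
    exact hc⟩
  haveI : UniversallyClosed (π' ≫ U.ι ≫ b) := by
    rw [← Category.assoc, hπ', ← h]
    infer_instance
  haveI : UniversallyClosed (U.ι ≫ b) := UniversallyClosed.of_comp_surjective π' (U.ι ≫ b)
  haveI : QuasiCompact (U.ι ≫ b) := inferInstance
  haveI : IsProper (U.ι ≫ b) := { }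
  let f : H'.left ⟶ (U : Scheme.{u}) := IsOpenImmersion.lift U.ι H'.hom (by rw [Scheme.Opens.range_ι]; exact hrange)
  have hf : f ≫ U.ι = H'.hom := IsOpenImmersion.lift_fac _ _ _
  let v : H'.left ⟶ pullback H.hom (U.ι ≫ b) := pullback.lift m.left f (by rw [reassoc_of% hf]; exact Over.w m)
  let w : pullback H.hom (U.ι ≫ b) ⟶ pullback H.hom b :=
    pullback.map _ _ _ _ (𝟙 _) U.ι (𝟙 S) (by simp) (by simp)
  have hvw : v ≫ w = u := by
    apply pullback.hom_ext
    · simp [v, w, hu1]
    · simp [v, w, hu2, hf]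
  haveI : IsClosedImmersion v := by
    haveI : IsClosedImmersion (v ≫ w) := by rw [hvw]; infer_instance
    haveI : IsClosedImmersion w := by
      refine MorphismProperty.of_isPullback (P := @IsClosedImmersion) (f := pullback.snd H.hom b)
        (f' := pullback.snd H.hom (U.ι ≫ b)) (g := U.ι) ?_ inferInstance
      refine IsPullback.of_bot ?_ (pullback.lift_snd _ _ _).symm (IsPullback.of_hasPullback H.hom b).flip
      simpa [w] using (IsPullback.of_hasPullback H.hom (U.ι ≫ b)).flip
    exact IsClosedImmersion.of_comp v w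
  haveI : IsProper m.left := by
    rw [← show v ≫ pullback.fst H.hom (U.ι ≫ b) = m.left from pullback.lift_fst _ _ _]
    infer_instance
  haveI : Mono m.left := ⟨fun {T} a a' haa => by
    let T₀ : Over S := Over.mk (a ≫ H'.hom ≫ b)
    have hb' : a' ≫ H'.hom ≫ b = a ≫ H'.hom ≫ b := by
      have e : (a' ≫ m.left) ≫ H.hom = (a ≫ m.left) ≫ H.hom := congrArg (· ≫ H.hom) haa.symm
      have ew : m.left ≫ H.hom = H'.hom ≫ b := Over.w m
      rwa [Category.assoc, Category.assoc, ew] at e
    let A : T₀ ⟶ dn b H' := Over.homMk a rfl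
    let A' : T₀ ⟶ dn b H' := Over.homMk a' hb'
    have hAA : A ≫ m = A' ≫ m := Over.OverMorphism.ext haa
    let t : PicF.XT π H' ⟶ PicF.XT g (dn b H') :=
      pullback.map π H'.hom g (H'.hom ≫ b) j (𝟙 H'.left) b h.symm (Category.id_comp _).symm
    let κ := ιZ ≫ t
    have ht : t ≫ PicF.XTproj g (dn b H') = PicF.XTproj π H' :=
      (pullback.lift_snd _ _ _).trans (Category.comp_id _)
    haveI : IsClosedImmersion t := by
      haveI : IsClosedImmersion (pullback.lift (pullback.fst π H'.hom ≫ j) (pullback.snd π H'.hom)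
          (by rw [Category.assoc, h, pullback.condition_assoc]) : pullback π H'.hom ⟶ pullback g (H'.hom ≫ b)) := by
        have e : IsPullback (pullback.fst π H'.hom) (pullback.lift (pullback.fst π H'.hom ≫ j)
            (pullback.snd π H'.hom) (by rw [Category.assoc, h, pullback.condition_assoc]) :
              pullback π H'.hom ⟶ pullback g (H'.hom ≫ b))
            i (pullback.lift (pullback.fst g (H'.hom ≫ b)) (pullback.snd g (H'.hom ≫ b) ≫ H'.hom)
              (by rw [Category.assoc]; exact pullback.condition)) := by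
          refine IsPullback.of_bot ?_ ?_ (show IsPullback (pullback.lift (pullback.fst g (H'.hom ≫ b))
              (pullback.snd g (H'.hom ≫ b) ≫ H'.hom) (by rw [Category.assoc]; exact pullback.condition))
              (pullback.snd g (H'.hom ≫ b)) (pullback.snd g b) H'.hom from ?_)
          · simp only [pullback.lift_snd, i]
            exact IsPullback.of_hasPullback π H'.hom
          · apply pullback.hom_ext <;> simp [i, pullback.condition]
          · refine IsPullback.of_right ?_ (pullback.lift_snd _ _ _) (IsPullback.of_hasPullback g b)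
            rw [pullback.lift_fst]
            exact IsPullback.of_hasPullback g (H'.hom ≫ b)
        exact MorphismProperty.of_isPullback (P := @IsClosedImmersion) e inferInstance
      simpa [t, pullback.map] using this
    haveI : IsClosedImmersion κ := inferInstance
    have hK : κ.ker = HilbD.pull g m Z.1 := hm.symm
    have hI : κ.ker.comap (PicF.XTmap g A) = κ.ker.comap (PicF.XTmap g A') := by
      rw [hK, ← HilbCurveLib.pull_eq, ← HilbCurveLib.pull_eq, ← HilbCurveLib.pull_comp, ← HilbCurveLib.pull_comp,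
        hAA]
    let W := κ.ker.comap (PicF.XTmap g A)
    have hW : ∀ (F : T₀ ⟶ dn b H'), κ.ker.comap (PicF.XTmap g F) = W →
        ∃ z : W.subscheme ⟶ Z'.1.subscheme, z ≫ κ = W.subschemeι ≫ PicF.XTmap g F := by
      intro F hF
      refine ⟨IsClosedImmersion.lift κ (W.subschemeι ≫ PicF.XTmap g F) ?_, IsClosedImmersion.lift_fac _ _ _⟩
      rw [← Scheme.IdealSheafData.map_bot (W.subschemeι ≫ PicF.XTmap g F), Scheme.IdealSheafData.map_comp,
        Scheme.IdealSheafData.map_bot, W.ker_subschemeι, Scheme.IdealSheafData.le_map_iff_comap_le, hF]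
    obtain ⟨z, hz⟩ := hW A rfl
    obtain ⟨z', hz'⟩ := hW A' hI.symm
    have e1 : ∀ (F : T₀ ⟶ dn b H') (z : W.subscheme ⟶ Z'.1.subscheme),
        z ≫ κ = W.subschemeι ≫ PicF.XTmap g F →
        (z ≫ ιZ ≫ pullback.fst π H'.hom) ≫ j = W.subschemeι ≫ pullback.fst g T₀.hom ∧
        (z ≫ ιZ ≫ pullback.fst π H'.hom) ≫ π = (W.subschemeι ≫ PicF.XTproj g T₀) ≫ F.left ≫ H'.hom := by
      intro F z hz
      have ht1 : t ≫ pullback.fst g (dn b H').hom = pullback.fst π H'.hom ≫ j := pullback.lift_fst _ _ _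
      have h1 := congrArg (· ≫ pullback.fst g (dn b H').hom) hz
      have h2 := congrArg (· ≫ PicF.XTproj g (dn b H')) hz
      simp only [κ, Category.assoc, ht1, ht, HilbCurveLib.XTmap_fst] at h1 h2
      have h3 : PicF.XTmap g F ≫ PicF.XTproj g (dn b H') = PicF.XTproj g T₀ ≫ F.left := HilbCurveLib.XTmap_snd g F
      rw [h3] at h2
      refine ⟨by simpa only [Category.assoc] using h1, ?_⟩
      simp only [Category.assoc, pullback.condition]
      have h4 := congrArg (· ≫ H'.hom) h2
      simpa only [Category.assoc, PicF.XTproj] using h4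
    obtain ⟨hj1, hπ1⟩ := e1 A z hz
    obtain ⟨hj2, hπ2⟩ := e1 A' z' hz'
    have hc : z ≫ ιZ ≫ pullback.fst π H'.hom = z' ≫ ιZ ≫ pullback.fst π H'.hom :=
      (cancel_mono j).1 (hj1.trans hj2.symm)
    have hdegW : Mor2.IsFinLocFreeOfDeg d (W.subschemeι ≫ PicF.XTproj g T₀) := by
      have := HilbCurveLib.pull_deg g (A ≫ m) Z.2
      rw [HilbCurveLib.pull_comp, ← hK, HilbCurveLib.pull_eq] at this
      exact this
    obtain ⟨⟨wfin, wfl, wfp⟩, -⟩ := id hdegW
    haveI := wfl; haveI := wfp
    haveI : Surjective (W.subschemeι ≫ PicF.XTproj g T₀) := surjective_of_deg _ hd hdegW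
    haveI := SchDesc.IsFpqc.of_locallyOfFinitePresentation (W.subschemeι ≫ PicF.XTproj g T₀)
    have hB : a ≫ H'.hom = a' ≫ H'.hom :=
      (cancel_epi (W.subschemeι ≫ PicF.XTproj g T₀)).1 (hπ1.symm.trans ((congrArg (· ≫ π) hc).trans hπ2))
    refine (cancel_mono u).1 (pullback.hom_ext ?_ ?_)
    · simpa [hu1] using haa
    · simpa [hu2] using hB⟩
  rw [IsClosedImmersion.eq_proper_inf_monomorphisms]; exact ⟨inferInstance, MorphismProperty.monomorphisms.infer_property _⟩

end Groth.Agent.HilbRelLib
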